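import Cfsg.Agent.Lib.Char.OddType.Support
import Cfsg.Prelude.Def_OddOrderChar

/-!
# `A₁(M)`, `A(M)` and `A₀(M)` satisfy the Dade hypothesis

Peterfalvi (8.8) and (8.9).
-/

set_option autoImplicit false
set_option linter.style.haveILetI false
set_option linter.unusedSectionVars false

open Subgroup
open scoped commutatorElement
open CfsgLib.Coprime (conjBy conjBy_conjBy conjBy_one mem_conjBy conj_mem_conjBy card_conjBy)

namespace CfsgLib.Char.OddType

open CfsgLib.CFun CfsgLib.CFun.TauTwo CfsgLib.CFun.Kappa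

universe u

variable {G : Type u} [Group G] [Finite G]

theorem conj_mem_derived {M : Subgroup G} {m a : G} (hm : m ∈ M) (ha : a ∈ ⁅M, M⁆) :
    m * a * m⁻¹ ∈ ⁅M, M⁆ := by
  have h : (⁅M, M⁆ : Subgroup G).map (MulAut.conj m).toMonoidHom = ⁅M, M⁆ := by
    rw [map_commutator, ← conjBy, CfsgLib.Coprime.conjBy_eq_self_of_mem hm]
  exact h.le ⟨a, ha, rfl⟩

theorem conj_mem_typeCore {M : Subgroup G} {m a : G} (hm : m ∈ M) (ha : a ∈ Cfsg.typeCore M) :
    m * a * m⁻¹ ∈ Cfsg.typeCore M := by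
  unfold Cfsg.typeCore at ha ⊢
  split_ifs at ha ⊢ with h
  · exact conj_mem_derived hm ha
  · exact (mem_normalizer_iff.1 (Chain.fittingHallOf_normal M hm) a).1 ha

/-- `M` normalizes `A(M)`. -/
theorem conj_mem_typeA {M : Subgroup G} {m a : G} (hm : m ∈ M) (ha : a ∈ Cfsg.typeA M) :
    m * a * m⁻¹ ∈ Cfsg.typeA M := by
  have hcomm : ∀ {x : G}, a * x = x * a →
      (m * a * m⁻¹) * (m * x * m⁻¹) = (m * x * m⁻¹) * (m * a * m⁻¹) := fun {x} h =>
    ((show Commute a x from h).map (MulAut.conj m).toMonoidHom).eq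
  unfold Cfsg.typeA at ha ⊢
  split_ifs at ha ⊢ with h
  · obtain ⟨haM, ha1, x, hx, hx1, hc⟩ := ha
    exact ⟨mul_mem (mul_mem hm haM) (inv_mem hm), fun e => ha1 (conj_eq_one_iff.1 e),
      m * x * m⁻¹, (mem_normalizer_iff.1 (Chain.fittingHallOf_normal M hm) x).1 hx,
      fun e => hx1 (conj_eq_one_iff.1 e), hcomm hc⟩
  · obtain ⟨haM, ha1, x, hx, hx1, hc⟩ := ha
    exact ⟨conj_mem_derived hm haM, fun e => ha1 (conj_eq_one_iff.1 e), m * x * m⁻¹,
      conj_mem_typeCore hm hx, fun e => hx1 (conj_eq_one_iff.1 e), hcomm hc⟩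

/-- `M` normalizes `A₀(M)`. -/
theorem conj_mem_typeA0 {M : Subgroup G} {m a : G} (hm : m ∈ M) (ha : a ∈ Cfsg.typeA0 M) :
    m * a * m⁻¹ ∈ Cfsg.typeA0 M := by
  rcases ha with ha | ⟨hI, W₁, V, W₂, hP, n, hn, w, hw, hw1, hw2, rfl⟩
  · exact Or.inl (conj_mem_typeA hm ha)
  · exact Or.inr ⟨hI, W₁, V, W₂, hP, m * n, mul_mem hm hn, w, hw, hw1, hw2, by group⟩

theorem conj_mem_typeA1 {M : Subgroup G} {m a : G} (hm : m ∈ M) (ha : a ∈ Cfsg.typeA1 M) :
    m * a * m⁻¹ ∈ Cfsg.typeA1 M :=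
  ⟨conj_mem_typeCore hm ha.1, fun e => ha.2 (conj_eq_one_iff.1 e)⟩

variable (hG : Cfsg.IsMinSimpleOddOrder G) {M : Subgroup G} (hM : IsCoatom M)
include hG hM

/-- `|R(a)|` is prime to the orders of the centralizers in `M` of the elements of `A₀(M)`. -/
theorem support_coprime {a b : G} (ha : a ∈ Cfsg.sigmaCore M) (ha1 : a ≠ 1)
    (haC : ¬ centralizer ({a} : Set G) ≤ M) (hb : b ∈ Cfsg.typeA0 M) :
    ∀ N : Subgroup G, IsCoatom N → centralizer ({a} : Set G) ≤ N →
      (Nat.card (Cfsg.fittingHallOf N)).Coprime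
        (Nat.card ↥(M ⊓ centralizer ({b} : Set G))) := by
  intro N hN haN
  obtain ⟨N', hN', -, huniq, -, hτ, hD, hnil⟩ := ElemCent.exists_data hG hM ha ha1 haC
  obtain rfl : N = N' := huniq N hN haN
  rw [Cosets.fittingHallOf_eq hG hN hnil]
  refine Nat.coprime_of_dvd fun r hr h1 h2 => ?_
  haveI : Fact r.Prime := ⟨hr⟩
  obtain ⟨q, hq, hqd⟩ := Nat.exists_prime_and_dvd fun e => ha1 (orderOf_eq_one_iff.1 e)
  haveI : Fact q.Prime := ⟨hq⟩
  have hqM := Cosets.sigma_of_mem hG hM ha hq hqd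
  have hrN : r ∈ Cfsg.sigma N := (sigmaCore_hall hG hN).1.2.1 r hr h1
  have hrM : r ∣ Nat.card M := h2.trans (card_dvd_of_le inf_le_left)
  have hκ := Neighbour.kappa_empty hG hM hN hqM (hτ q hq hqd) hD hrN hrM
  have hτ2 := Neighbour.tau2_empty hG hM hN hqM (hτ q hq hqd) hD hrN hrM
  have hr1 := Neighbour.mem_tau1 hG hM hN hqM (hτ q hq hqd) hD hrN hrM
  obtain ⟨K, U, d⟩ := Chain.exists_decomposition hG hM
  have hbσ : b ∈ Cfsg.sigmaCore M ∧ b ≠ 1 := by
    rcases typeA0_cases hG hM d hb with h | h | ⟨-, m, -, z, hz, -⟩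
    · exact h
    · obtain ⟨s, hs, hs1, hsσ, -, -⟩ := sigmaA_part hG hM d h
      obtain ⟨t, ht, htd⟩ := Nat.exists_prime_and_dvd fun e => hs1 (orderOf_eq_one_iff.1 e)
      have := (sigmaA_power hG hM d h.1 hs hs1 hsσ).1 t ht htd
      rw [hτ2] at this
      exact this.elim
    · obtain ⟨p, -, -, hp⟩ := zhat_prime hG hM d (m := m) hz
      rw [hκ] at hp
      exact hp.elim
  obtain ⟨z, hz⟩ := exists_prime_orderOf_dvd_card' r h2
  have hzord : r ∣ orderOf (z : G) := by rw [orderOf_coe, hz]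
  have hc : Commute b (z : G) := (mem_centralizer_singleton_iff.1 (mem_inf.1 z.2).2).symm
  rcases Cover.prime_cases hG hM hbσ.1 hbσ.2 (mem_inf.1 z.2).1 hc hzord hr1.2.1 with h | h
  · rw [hκ] at h; exact h
  · rw [hτ2] at h; exact h

/-- The Dade hypothesis for `A₀(M)` and its `M`-invariant subsets. -/
theorem dadeHypothesis {A : Set G} (hA : A ⊆ Cfsg.typeA0 M)
    (hinv : ∀ m ∈ M, ∀ a ∈ A, m * a * m⁻¹ ∈ A) :
    Cfsg.DadeHypothesis A M (Cfsg.supportR M) := by
  obtain ⟨K, U, d⟩ := Chain.exists_decomposition hG hM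
  have htriv : ∀ a : G, centralizer ({a} : Set G) ≤ M → Cfsg.supportR M a = ⊥ := fun a h => by
    rw [Cfsg.supportR, dif_neg fun h' => h'.1 h]
  have hsplit : ∀ a ∈ A, Cfsg.IsComplIn (M ⊓ centralizer ({a} : Set G)) (Cfsg.supportR M a)
        (centralizer ({a} : Set G)) ∧
      centralizer ({a} : Set G) ≤ normalizer (Cfsg.supportR M a : Set G) := by
    intro a ha
    by_cases haC : centralizer ({a} : Set G) ≤ M
    · rw [htriv a haC]
      exact ⟨⟨inf_le_right, bot_le, inf_bot_eq _, fun c hc =>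
        ⟨c, mem_inf.2 ⟨haC hc, hc⟩, 1, one_mem _, (mul_one c).symm⟩⟩,
        by rw [normalizer_eq_top]; exact le_top⟩
    · obtain ⟨haσ, ha1⟩ := mem_sigmaCore_of_not_le hG hM d (hA ha) haC
      obtain ⟨h1, h2, -⟩ := Tilde.centralizer_split hG hM haσ ha1
      exact ⟨h1, h2⟩
  refine
    { one_not_mem := fun h => typeA0_ne_one hG hM d (hA h) rfl
      subset := fun a ha => typeA0_mem hG hM d (hA ha)
      conj_mem := hinv
      fusion := fun a ha g hg => fusion_typeA0 hG hM d (hA ha) (hA hg)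
      le_centralizer := fun a ha => (hsplit a ha).1.2.1
      conj_mem_H := fun a ha c hc u hu =>
        (mem_normalizer_iff.1 ((hsplit a ha).2 hc) u).1 hu
      inf_eq_bot := fun a ha => by rw [inf_comm]; exact (hsplit a ha).1.2.2.1
      sup_eq := fun a ha => ?_
      coprime := fun a ha b hb => ?_ }
  · refine le_antisymm (sup_le (hsplit a ha).1.2.1 inf_le_right) fun c hc => ?_
    obtain ⟨x, hx, y, hy, rfl⟩ := (hsplit a ha).1.2.2.2 c hc
    exact mul_mem (mem_sup_right hx) (mem_sup_left hy)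
  · by_cases haC : centralizer ({a} : Set G) ≤ M
    · rw [htriv a haC, card_bot]; exact Nat.coprime_one_left _
    · obtain ⟨haσ, ha1⟩ := mem_sigmaCore_of_not_le hG hM d (hA ha) haC
      obtain ⟨N, hN, haN, -, -, -, hF, hR⟩ := Tilde.support_eq hG hM haσ ha1 haC
      refine (support_coprime hG hM haσ ha1 haC (hA hb) N hN haN).coprime_dvd_left ?_
      rw [hR, ← hF]
      exact card_dvd_of_le inf_le_left

/-- The normalizer of a nonempty `M`-invariant subset of `A₀(M)` is `M`. -/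
theorem normalizer_eq {A : Set G} (hA : A ⊆ Cfsg.typeA0 M) (hne : A.Nonempty)
    (hinv : ∀ m ∈ M, ∀ a ∈ A, m * a * m⁻¹ ∈ A) : normalizer A = M := by
  obtain ⟨K, U, d⟩ := Chain.exists_decomposition hG hM
  have hle : M ≤ normalizer A := fun m hm => mem_set_normalizer_iff.2 fun a =>
    ⟨hinv m hm a, fun h => by simpa [mul_assoc] using hinv m⁻¹ (inv_mem hm) _ h⟩
  refine (hM.le_iff.1 hle).resolve_left fun htop => ?_
  have hclM : closure A ≤ M := (closure_le M).2 fun a ha => typeA0_mem hG hM d (hA ha)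
  refine ms_normalizer_ne_top hG (X := closure A) (fun e => ?_)
    (fun e => hM.1 (top_le_iff.1 (e ▸ hclM))) (top_le_iff.1 ?_)
  · obtain ⟨a, ha⟩ := hne
    exact typeA0_ne_one hG hM d (hA ha) (mem_bot.1 (e ▸ subset_closure ha))
  · intro g _
    have hg : g ∈ normalizer A := htop ▸ mem_top g
    refine CfsgLib.Coprime.conjBy_eq_self_iff.1 (le_antisymm ?_ ?_)
    · rw [conjBy, MonoidHom.map_closure, closure_le]
      rintro _ ⟨a, ha, rfl⟩
      exact subset_closure ((mem_set_normalizer_iff.1 hg a).1 ha)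
    · rw [closure_le]
      intro a ha
      refine ⟨g⁻¹ * a * g, subset_closure ((mem_set_normalizer_iff.1 hg _).2 ?_), ?_⟩
      · simpa [mul_assoc] using ha
      · show g * (g⁻¹ * a * g) * g⁻¹ = a
        group

theorem typeA1_nonempty : (Cfsg.typeA1 M).Nonempty := by
  obtain ⟨K, U, d⟩ := Chain.exists_decomposition hG hM
  rw [typeA1_eq hG hM d]
  obtain ⟨x, hx, hx1⟩ := (bot_or_exists_ne_one _).resolve_left (sigmaCore_ne_bot hG hM)
  exact ⟨x, hx, hx1⟩

theorem typeA1_subset_typeA0 : Cfsg.typeA1 M ⊆ Cfsg.typeA0 M := by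
  obtain ⟨K, U, d⟩ := Chain.exists_decomposition hG hM
  exact fun a ha => Or.inl (typeA1_subset hG hM d ha)

/-- For type II all centralizers of elements of `A₀(M)` lie in `M`. -/
theorem centralizer_le_of_typeII (hII : Cfsg.IsOfTypeII M) {a : G} (ha : a ∈ Cfsg.typeA0 M) :
    centralizer ({a} : Set G) ≤ M := by
  obtain ⟨K, U, d⟩ := Chain.exists_decomposition hG hM
  obtain ⟨-, hU⟩ := TypeClass.of_typeII hG hM d hII
  by_contra hC
  obtain ⟨haσ, ha1⟩ := mem_sigmaCore_of_not_le hG hM d ha hC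
  obtain ⟨W₁, V, W₂, -, -, -, hTI, -⟩ := hII
  have hF := Cosets.fittingHallOf_eq hG hM (Partner.nilpotent_of_U_ne_bot hG hM d hU).1
  have haF : a ∈ Cfsg.fittingOf M := Chain.fittingHallOf_le_fittingOf M (hF.ge haσ)
  obtain ⟨c, hc, hcM⟩ := SetLike.not_le_iff_exists.1 hC
  refine ha1 (hTI c (fun hn => hcM ?_) a haF ?_)
  · have := ms_normalizer_eq hG hM (map_subtype_le _ : Cfsg.fittingOf M ≤ M)
      (fun e => ha1 (mem_bot.1 (e ▸ haF))) (Chain.fittingOf_normal M)
    exact this ▸ hn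
  · rw [mem_centralizer_singleton_iff.1 hc, mul_inv_cancel_right]
    exact haF

/-- For type II the invariant subsets of `A₀(M)` are TI-sets. -/
theorem ti_of_typeII (hII : Cfsg.IsOfTypeII M) {A : Set G} (hA : A ⊆ Cfsg.typeA0 M)
    (hinv : ∀ m ∈ M, ∀ a ∈ A, m * a * m⁻¹ ∈ A) : Cfsg.IsTISubset A := by
  obtain ⟨K, U, d⟩ := Chain.exists_decomposition hG hM
  intro g hg a ha hga
  exfalso
  refine hg ?_
  obtain ⟨m, hm, e⟩ := fusion_typeA0 hG hM d (hA ha) (hA hga)
  have hc : m⁻¹ * g ∈ centralizer ({a} : Set G) := mem_centralizer_singleton_iff.2 <| by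
    calc m⁻¹ * g * a = m⁻¹ * (g * a * g⁻¹) * g := by group
      _ = a * (m⁻¹ * g) := by rw [← e]; group
  have hgM : g ∈ M := by
    have := mul_mem hm (centralizer_le_of_typeII hG hM hII (hA ha) hc)
    rwa [mul_inv_cancel_left] at this
  rw [normalizer_eq hG hM hA ⟨a, ha⟩ hinv]
  exact hgM

end CfsgLib.Char.OddType
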