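import Cfsg.Agent.Lib.CFun.OddTypeClassify
import Cfsg.Agent.Lib.CFun.OddSigmaASets
import Cfsg.Agent.Lib.CFun.OddTildeCover

/-!
# The sets `A₁(M)`, `A(M)`, `A₀(M)` of the types in terms of the `σ`-decomposition

Peterfalvi, section 8: comparison of the two descriptions of the sets attached to a maximal
subgroup of a minimal simple group of odd order.
-/

set_option autoImplicit false
set_option linter.style.haveILetI false
set_option linter.unusedSectionVars false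

open Subgroup
open scoped commutatorElement
open CfsgLib.Coprime (conjBy conjBy_conjBy conjBy_one mem_conjBy conj_mem_conjBy card_conjBy
  IsHallIn IsSylowIn IsPiNum)

namespace CfsgLib.Char.OddType

open CfsgLib.CFun CfsgLib.CFun.TauTwo CfsgLib.CFun.Kappa

universe u

variable {G : Type u} [Group G] [Finite G] (hG : Cfsg.IsMinSimpleOddOrder G)
variable {M K U : Subgroup G} (hM : IsCoatom M) (d : Cfsg.IsSigmaDecomposition M K U)
include hG hM d

omit hM in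
theorem sup_eq_of_bot (hK : K = ⊥) : U ⊔ Cfsg.sigmaCore M = M := by
  refine le_antisymm (sup_le d.compl.1 (map_subtype_le _)) fun m hm => ?_
  obtain ⟨u, hu, b, hb, rfl⟩ := d.compl.2.2.2 m hm
  rw [hK, bot_sup_eq] at hb
  exact mul_mem_sup hu hb

/-- `K = 1` forces `U ≠ 1`. -/
theorem U_ne_bot_of_bot (hK : K = ⊥) : U ≠ ⊥ := fun hU => by
  have h := sup_eq_of_bot hG d hK
  rw [hU, bot_sup_eq] at h
  exact (FifteenTwo.derived_lt hG hM).not_ge
    (h.ge.trans (CfsgLib.CFun.sigmaCore_le_derived hG hM))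

/-- For `K = 1` the subgroup `M_F` is `M_σ`. -/
theorem fittingHall_eq_of_bot (hK : K = ⊥) : Cfsg.fittingHallOf M = Cfsg.sigmaCore M :=
  by_contra fun hne => (FifteenTwo.bot_of_ne hG hM d hne).2 hK

/-- `M_s = M_σ` for every type. -/
theorem typeCore_eq : Cfsg.typeCore M = Cfsg.sigmaCore M := by
  unfold Cfsg.typeCore
  split_ifs with h
  · obtain ⟨hK1, hU, -⟩ := TypeClass.of_typeIII_or_IV hG hM d h
    rw [KappaDerived.derived_eq hG hM d hK1, hU, bot_sup_eq]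
  · by_contra hne
    exact h (TypeClass.typeIII_or_IV_of hG hM d hne)

theorem typeA1_eq : Cfsg.typeA1 M = (Cfsg.sigmaCore M : Set G) \ {1} := by
  rw [Cfsg.typeA1, typeCore_eq hG hM d]

/-- `A(M)` is `A(M)` of the local analysis without `1`, once type I is `κ(M) = ∅`. -/
theorem mem_typeA_iff (hI : Cfsg.IsOfTypeI M ↔ K = ⊥) {a : G} :
    a ∈ Cfsg.typeA M ↔ a ∈ Cfsg.sigmaA M U ∧ a ≠ 1 := by
  unfold Cfsg.typeA
  split_ifs with h
  · have hK := hI.1 h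
    have hUM := sup_eq_of_bot hG d hK
    rw [fittingHall_eq_of_bot hG hM d hK]
    constructor
    · rintro ⟨ha, ha1, x, hx, hx1, hc⟩
      exact ⟨⟨⟨ha, x, hx, hx1, hc⟩, hUM.ge ha⟩, ha1⟩
    · rintro ⟨⟨⟨ha, x, hx, hx1, hc⟩, -⟩, ha1⟩
      exact ⟨ha, ha1, x, hx, hx1, hc⟩
  · have hK : K ≠ ⊥ := fun e => h (hI.2 e)
    rw [typeCore_eq hG hM d, KappaDerived.derived_eq hG hM d hK]
    constructor
    · rintro ⟨ha, ha1, x, hx, hx1, hc⟩
      exact ⟨⟨⟨sup_le d.compl.1 (map_subtype_le _) ha, x, hx, hx1, hc⟩, ha⟩, ha1⟩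
    · rintro ⟨⟨⟨-, x, hx, hx1, hc⟩, ha⟩, ha1⟩
      exact ⟨ha, ha1, x, hx, hx1, hc⟩

section TypeP

variable (hK1 : K ≠ ⊥)
include hK1

/-- `C_{M'}(k) = K*` for `k ∈ K#`. -/
theorem derived_inf_centralizer {k : G} (hk : k ∈ K) (hk1 : k ≠ 1) :
    ⁅M, M⁆ ⊓ centralizer ({k} : Set G) = Cfsg.sigmaCore M ⊓ centralizer (K : Set G) := by
  refine le_antisymm (fun y hy => ?_) (le_inf
    (inf_le_left.trans (KappaDerived.sigmaCore_le_derived hG hM d hK1))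
    (inf_le_right.trans (centralizer_le (Set.singleton_subset_iff.2 hk))))
  obtain ⟨hy', hyC⟩ := mem_inf.1 hy
  have hyZ : y ∈ (Cfsg.sigmaCore M ⊓ centralizer (K : Set G)) ⊔ K := by
    rw [sup_comm, ← Decomp.centralizer_eq hG hM d hk hk1]
    exact mem_inf.2 ⟨commutator_le_self M hy', hyC⟩
  obtain ⟨s, hs, c, hc, rfl⟩ :=
    CfsgLib.Coprime.mem_sup_exists (TypeClass.fixed_normal d) hyZ
  have hc1 : c ∈ ⁅M, M⁆ ⊓ K := by
    refine mem_inf.2 ⟨?_, hc⟩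
    have := mul_mem
      (inv_mem (KappaDerived.sigmaCore_le_derived hG hM d hK1 (mem_inf.1 hs).1)) hy'
    rwa [inv_mul_cancel_left] at this
  rw [TypeClass.inf_derived hG hM d hK1, mem_bot] at hc1
  rwa [hc1, mul_one]

/-- All data of type `P` are conjugate to `(K, K*)`. -/
theorem typeP_conj {W₁ V W₂ : Subgroup G} (hP : Cfsg.IsTypePWith M W₁ V W₂) :
    ∃ m ∈ M, conjBy m W₁ = K ∧
      conjBy m W₂ = Cfsg.sigmaCore M ⊓ centralizer (K : Set G) := by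
  have hWM : W₁ ≤ M := hP.W₁_compl.2.1
  have hc : Nat.card W₁ = Nat.card K := by
    have h1 := card_of_compl hP.W₁_compl
    have h2 := card_of_compl (TypeClass.derived_compl hG hM d hK1)
    exact Nat.eq_of_mul_eq_mul_left Nat.card_pos (h1.symm.trans h2)
  have hH : IsHallIn (Cfsg.kappa M) K M :=
    ⟨d.hall.1, d.hall.2.1, fun p hp hd hκ => d.hall.2.2 p hp hκ hd⟩
  obtain ⟨m, hm, hle⟩ := hH.exists_conj_le (ms_solvable hG hM.1) hWM
    fun p hp hd => d.hall.2.1 p hp (hc ▸ hd)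
  have he : conjBy m W₁ = K := Subgroup.eq_of_le_of_card_ge hle (by rw [card_conjBy, hc])
  refine ⟨m, hm, he, ?_⟩
  obtain ⟨k, hk, hk1⟩ := (bot_or_exists_ne_one K).resolve_left hK1
  have hk' : k ∈ conjBy m W₁ := he.symm ▸ hk
  obtain ⟨w, hw, rfl⟩ := hk'
  have hw1 : w ≠ 1 := fun e => hk1 (by rw [e, map_one])
  have hfix : conjBy m ⁅M, M⁆ = ⁅M, M⁆ := by
    rw [conjBy, map_commutator, ← conjBy, CfsgLib.Coprime.conjBy_eq_self_of_mem hm]
  rw [← derived_inf_centralizer hG hM d hK1 hk hk1, ← hP.W₂_centralizer w hw hw1,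
    conjBy, map_inf _ _ _ (MulAut.conj m).injective, ← conjBy, ← conjBy, hfix,
    Tilde.conjBy_centralizer]
  rfl

theorem exists_typeP : ∃ W₁ V W₂ : Subgroup G, Cfsg.IsTypePWith M W₁ V W₂ := by
  by_cases hU : U = ⊥
  · by_cases hne : Cfsg.fittingHallOf M = Cfsg.sigmaCore M
    · obtain ⟨W₁, V, W₂, h, -⟩ := TypeClass.typeV_of hG hM d hK1 hU hne
      exact ⟨W₁, V, W₂, h⟩
    · rcases TypeClass.typeIII_or_IV_of hG hM d hne with h | h <;>
        obtain ⟨W₁, V, W₂, h, -⟩ := h <;> exact ⟨W₁, V, W₂, h⟩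
  · obtain ⟨W₁, V, W₂, h, -⟩ := TypeClass.typeII_of hG hM d hK1 hU
    exact ⟨W₁, V, W₂, h⟩

end TypeP

/-- `A₀(M)` in terms of `Ẑ`. -/
theorem mem_typeA0_iff (hI : Cfsg.IsOfTypeI M ↔ K = ⊥) {a : G} :
    a ∈ Cfsg.typeA0 M ↔ a ∈ Cfsg.typeA M ∨
      (K ≠ ⊥ ∧ ∃ m ∈ M, ∃ z ∈ Zhat.zhat M K, a = m * z * m⁻¹) := by
  refine or_congr Iff.rfl ⟨?_, ?_⟩
  · rintro ⟨hnI, W₁, V, W₂, hP, m, hm, w, hw, hw1, hw2, rfl⟩
    have hK1 : K ≠ ⊥ := fun e => hnI (hI.2 e)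
    refine ⟨hK1, ?_⟩
    obtain ⟨n, hn, e1, e2⟩ := typeP_conj hG hM d hK1 hP
    refine ⟨m * n⁻¹, mul_mem hm (inv_mem hn), n * w * n⁻¹, ⟨?_, ?_⟩, by group⟩
    · rw [← e2, ← e1, conjBy, conjBy, ← Subgroup.map_sup]
      exact ⟨w, hw, rfl⟩
    · rw [← e2, ← e1]
      rintro (h | h)
      · exact hw1 (by
          obtain ⟨v, hv, e⟩ := h
          exact (MulAut.conj n).injective (e.trans rfl) ▸ hv)
      · exact hw2 (by
          obtain ⟨v, hv, e⟩ := h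
          exact (MulAut.conj n).injective (e.trans rfl) ▸ hv)
  · rintro ⟨hK1, m, hm, z, ⟨hz, hz'⟩, rfl⟩
    refine ⟨fun h => hK1 (hI.1 h), ?_⟩
    obtain ⟨W₁, V, W₂, hP⟩ := exists_typeP hG hM d hK1
    obtain ⟨n, hn, e1, e2⟩ := typeP_conj hG hM d hK1 hP
    rw [← e2, ← e1, conjBy, conjBy, ← Subgroup.map_sup] at hz
    obtain ⟨w, hw, rfl⟩ := hz
    refine ⟨W₁, V, W₂, hP, m * n, mul_mem hm hn, w, hw, fun h => hz' (Or.inl ?_),
      fun h => hz' (Or.inr ?_), ?_⟩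
    · rw [← e1]; exact ⟨w, h, rfl⟩
    · rw [← e2]; exact ⟨w, h, rfl⟩
    · show m * (n * w * n⁻¹) * m⁻¹ = _
      group

end CfsgLib.Char.OddType
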