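import Cfsg.Agent.Lib.Char.OddType.Sets
import Cfsg.Agent.Lib.CFun.OddTypeTwoSource

/-!
# The Dade hypothesis for the sets of a maximal subgroup

Peterfalvi, section 8 (Bender–Glauberman, Theorem II): fusion in `A₀(M)`, the centralizers of its
elements and the coprimality of the supporting subgroups.
-/

set_option autoImplicit false
set_option linter.style.haveILetI false
set_option linter.unusedSectionVars false

open Subgroup
open scoped commutatorElement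
open CfsgLib.Coprime (conjBy conjBy_conjBy conjBy_one mem_conjBy conj_mem_conjBy card_conjBy
  IsHallIn IsSylowIn IsPiNum)

namespace CfsgLib.Char.OddType

open CfsgLib.CFun CfsgLib.CFun.TauTwo CfsgLib.CFun.Kappa CfsgLib.CFun.Partner

universe u

variable {G : Type u} [Group G] [Finite G] (hG : Cfsg.IsMinSimpleOddOrder G)
variable {M K U : Subgroup G} (hM : IsCoatom M) (d : Cfsg.IsSigmaDecomposition M K U)
include hG hM d

theorem not_typeI_of_ne (hK1 : K ≠ ⊥) : Cfsg.IsOfTypeI M ↔ K = ⊥ :=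
  iff_of_false (TypeClass.not_typeI hG hM d hK1) hK1

/-- `A(M)` lies in the set `A(M)` of the local analysis. -/
theorem sigmaA_of_typeA {a : G} (ha : a ∈ Cfsg.typeA M) : a ∈ Cfsg.sigmaA M U ∧ a ≠ 1 := by
  by_cases hK : K = ⊥
  · have hUM := sup_eq_of_bot hG d hK
    have hF := fittingHall_eq_of_bot hG hM d hK
    unfold Cfsg.typeA at ha
    split_ifs at ha with h
    · obtain ⟨ha, ha1, x, hx, hx1, hc⟩ := ha
      exact ⟨⟨⟨ha, x, hF ▸ hx, hx1, hc⟩, hUM.ge ha⟩, ha1⟩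
    · obtain ⟨ha, ha1, x, hx, hx1, hc⟩ := ha
      exact ⟨⟨⟨commutator_le_self M ha, x, typeCore_eq hG hM d ▸ hx, hx1, hc⟩,
        hUM.ge (commutator_le_self M ha)⟩, ha1⟩
  · exact (mem_typeA_iff hG hM d (not_typeI_of_ne hG hM d hK)).1 ha

theorem typeA1_subset : Cfsg.typeA1 M ⊆ Cfsg.typeA M := by
  rw [typeA1_eq hG hM d]
  rintro a ⟨ha, ha1⟩
  have ha1' : a ≠ 1 := ha1
  unfold Cfsg.typeA
  split_ifs with h
  · have hK : K = ⊥ := by
      by_contra hK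
      exact TypeClass.not_typeI hG hM d hK h
    exact ⟨map_subtype_le _ ha, ha1', a, (fittingHall_eq_of_bot hG hM d hK).symm ▸ ha, ha1', rfl⟩
  · exact ⟨CfsgLib.CFun.sigmaCore_le_derived hG hM ha, ha1', a,
      (typeCore_eq hG hM d).symm ▸ ha, ha1', rfl⟩

/-- The three parts of `A₀(M)`. -/
theorem typeA0_cases {a : G} (ha : a ∈ Cfsg.typeA0 M) :
    (a ∈ Cfsg.sigmaCore M ∧ a ≠ 1) ∨ a ∈ Cfsg.sigmaA M U \ (Cfsg.sigmaCore M : Set G) ∨
      (K ≠ ⊥ ∧ ∃ m ∈ M, ∃ z ∈ Zhat.zhat M K, a = m * z * m⁻¹) := by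
  rcases ha with ha | ha
  · obtain ⟨hA, ha1⟩ := sigmaA_of_typeA hG hM d ha
    by_cases hσ : a ∈ Cfsg.sigmaCore M
    · exact Or.inl ⟨hσ, ha1⟩
    · exact Or.inr (Or.inl ⟨hA, hσ⟩)
  · obtain ⟨-, W₁, V, W₂, hP, -⟩ := id ha
    have hK1 := TypeClass.kappa_ne_bot hG hM d hP
    rcases (mem_typeA0_iff hG hM d (not_typeI_of_ne hG hM d hK1)).1 (Or.inr ha) with h | h
    · obtain ⟨hA, ha1⟩ := sigmaA_of_typeA hG hM d h
      by_cases hσ : a ∈ Cfsg.sigmaCore M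
      · exact Or.inl ⟨hσ, ha1⟩
      · exact Or.inr (Or.inl ⟨hA, hσ⟩)
    · exact Or.inr (Or.inr h)

/-- No prime of `κ(M)` divides the order of an element of `U M_σ`. -/
theorem not_kappa_of_mem {z : G} (hz : z ∈ U ⊔ Cfsg.sigmaCore M) {p : ℕ} (hp : p.Prime)
    (hpd : p ∣ orderOf z) : p ∉ Cfsg.kappa M := fun hκ => by
  have h := (hpd.trans (Subgroup.orderOf_dvd_natCard _ hz)).trans
    (CfsgLib.Coprime.card_sup_dvd_of_le_normalizer
      (d.compl.1.trans (TauTwo.sigmaCore_normal hG M)))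
  rcases hp.dvd_mul.1 h with h' | h'
  · exact (Decomp.primes hG hM d hp h').2 hκ
  · exact hκ.2.2.1 ((sigmaCore_hall hG hM).1.2.1 p hp h')

/-- The nontrivial `σ(M)'`-powers of an element of `A(M) \\ M_σ` are `τ₂`-elements. -/
theorem sigmaA_power {a w : G} (ha : a ∈ Cfsg.sigmaA M U) (hw : w ∈ zpowers a) (hw1 : w ≠ 1)
    (hσ : ∀ p : ℕ, p.Prime → p ∣ orderOf w → p ∉ Cfsg.sigma M) :
    (∀ p : ℕ, p.Prime → p ∣ orderOf w → p ∈ Cfsg.tau2 M) ∧
      centralizer ({w} : Set G) ≤ M ∧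
      ∀ L : Subgroup G, IsCoatom L → centralizer ({w} : Set G) ≤ L → L = M := by
  obtain ⟨⟨haM, y, hy, hy1, hc⟩, haV⟩ := ha
  obtain ⟨i, rfl⟩ := mem_zpowers_iff.1 hw
  have hcs : Commute y (a ^ i) := (show Commute y a from hc.symm).zpow_right i
  have hsM : a ^ i ∈ M := zpow_mem haM i
  rcases Cover.kappa_or_tau2 hG hM hy hy1 hsM hcs hσ with h | h
  · obtain ⟨p, hp, hpd⟩ := Nat.exists_prime_and_dvd fun e => hw1 (orderOf_eq_one_iff.1 e)
    exact absurd (h p hp hpd)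
      (not_kappa_of_mem hG hM d haV hp (hpd.trans (orderOf_dvd_of_mem_zpowers hw)))
  · exact ⟨h, (Cover.tau2_case hG hM hy hy1 hsM hcs hw1 h).2⟩

/-- An element of `A(M) \\ M_σ` has a nontrivial `σ(M)'`-part. -/
theorem sigmaA_part {a : G} (ha : a ∈ Cfsg.sigmaA M U \ (Cfsg.sigmaCore M : Set G)) :
    ∃ s ∈ zpowers a, s ≠ 1 ∧ (∀ p : ℕ, p.Prime → p ∣ orderOf s → p ∉ Cfsg.sigma M) ∧
      centralizer ({s} : Set G) ≤ M ∧
      ∀ L : Subgroup G, IsCoatom L → centralizer ({s} : Set G) ≤ L → L = M := by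
  obtain ⟨t, s, htz, hsz, e, ht, hs⟩ := Star.exists_part (Cfsg.sigma M) a
  have hs1 : s ≠ 1 := by
    rintro rfl
    rw [mul_one] at e
    subst e
    exact ha.2 (le_sigmaCore_of_isPiNum hG hM (zpowers_le.2 ha.1.1.1)
      (fun p hp hd => ht p hp (by rwa [Nat.card_zpowers] at hd)) (mem_zpowers a))
  exact ⟨s, hsz, hs1, hs, (sigmaA_power hG hM d ha.1 hsz hs1 hs).2⟩

/-- The centralizer of an element of `A(M) \ M_σ` has `M` as its only maximal overgroup. -/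
theorem sigmaA_centralizer {a : G} (ha : a ∈ Cfsg.sigmaA M U \ (Cfsg.sigmaCore M : Set G)) :
    centralizer ({a} : Set G) ≤ M := by
  obtain ⟨s, hs, -, -, hle, -⟩ := sigmaA_part hG hM d ha
  refine le_trans ?_ hle
  rw [← centralizer_zpowers a, ← centralizer_zpowers s]
  exact centralizer_le (SetLike.coe_subset_coe.2 (zpowers_le.2 hs))

/-- An element of `Ẑ` has centralizer in `M`. -/
theorem zhat_centralizer (hK1 : K ≠ ⊥) {m z : G} (hm : m ∈ M) (hz : z ∈ Zhat.zhat M K) :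
    centralizer ({m * z * m⁻¹} : Set G) ≤ M := by
  obtain ⟨a, b, rfl, ha, ha1, hb, hb1, -, -, -⟩ := Inter.exists_parts hG hM d.hall hz
  obtain ⟨N, hN, hNK, hNH⟩ := exists_partner hG hM d.hall hK1
  rw [← Tilde.conjBy_centralizer, Inter.centralizer_mul_eq hG hM d.hall hK1 hN hNK hNH ha ha1 hb hb1]
  refine (map_mono (sup_le d.hall.1 (inf_le_left.trans (map_subtype_le _)))).trans ?_
  exact (CfsgLib.Coprime.conjBy_eq_self_of_mem hm).le

/-- Only elements of `A₁(M)` have centralizers outside `M`. -/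
theorem mem_sigmaCore_of_not_le {a : G} (ha : a ∈ Cfsg.typeA0 M)
    (haC : ¬ centralizer ({a} : Set G) ≤ M) : a ∈ Cfsg.sigmaCore M ∧ a ≠ 1 := by
  rcases typeA0_cases hG hM d ha with h | h | ⟨hK1, m, hm, z, hz, rfl⟩
  · exact h
  · exact absurd (sigmaA_centralizer hG hM d h) haC
  · exact absurd (zhat_centralizer hG hM d hK1 hm hz) haC

theorem typeA0_mem {a : G} (ha : a ∈ Cfsg.typeA0 M) : a ∈ M := by
  rcases typeA0_cases hG hM d ha with h | h | ⟨-, m, hm, z, hz, rfl⟩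
  · exact map_subtype_le _ h.1
  · exact h.1.1.1
  · exact mul_mem (mul_mem hm
      (sup_le d.hall.1 (inf_le_left.trans (map_subtype_le _)) hz.1)) (inv_mem hm)

theorem typeA0_ne_one {a : G} (ha : a ∈ Cfsg.typeA0 M) : a ≠ 1 := by
  rcases typeA0_cases hG hM d ha with h | h | ⟨-, m, -, z, hz, rfl⟩
  · exact h.2
  · exact fun e => h.2 (e ▸ one_mem _)
  · exact fun e => hz.2 (Or.inl (conj_eq_one_iff.1 e ▸ one_mem _))

omit d in
/-- `M` controls the fusion of an element of `M_σ`. -/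
theorem fusion_sigma {a g : G} (ha : a ∈ Cfsg.sigmaCore M) (ha1 : a ≠ 1)
    (hb : g * a * g⁻¹ ∈ M) : ∃ m ∈ M, m * a * m⁻¹ = g * a * g⁻¹ := by
  obtain ⟨m, hm, c, hc, rfl⟩ := Cosets.fusion hG hM ha ha1 hb
  refine ⟨m, hm, ?_⟩
  calc m * a * m⁻¹ = m * (c * a * c⁻¹) * m⁻¹ := by
        rw [mem_centralizer_singleton_iff.1 hc, mul_inv_cancel_right]
    _ = m * c * a * (m * c)⁻¹ := by group

/-- A conjugate of `Ẑ` has order divisible by a prime of `κ(M)`. -/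
theorem zhat_prime {m z : G} (hz : z ∈ Zhat.zhat M K) :
    ∃ p : ℕ, p.Prime ∧ p ∣ orderOf (m * z * m⁻¹) ∧ p ∈ Cfsg.kappa M := by
  obtain ⟨a, b, -, ha, ha1, -, -, -, haz, -⟩ := Inter.exists_parts hG hM d.hall hz
  obtain ⟨p, hp, hpd⟩ := Nat.exists_prime_and_dvd fun e => ha1 (orderOf_eq_one_iff.1 e)
  refine ⟨p, hp, ?_, d.hall.2.1 p hp (hpd.trans (Subgroup.orderOf_dvd_natCard _ ha))⟩
  rw [show orderOf (m * z * m⁻¹) = orderOf z from (MulAut.conj m).orderOf_eq z]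
  exact hpd.trans (orderOf_dvd_of_mem_zpowers haz)

/-- `M` controls fusion in `A₀(M)`. -/
theorem fusion_typeA0 {a g : G} (ha : a ∈ Cfsg.typeA0 M) (hb : g * a * g⁻¹ ∈ Cfsg.typeA0 M) :
    ∃ m ∈ M, m * a * m⁻¹ = g * a * g⁻¹ := by
  have hord : orderOf (g * a * g⁻¹) = orderOf a := (MulAut.conj g).orderOf_eq a
  by_cases haσ : a ∈ Cfsg.sigmaCore M
  · exact fusion_sigma hG hM haσ (typeA0_ne_one hG hM d ha) (typeA0_mem hG hM d hb)
  have hbσ : g * a * g⁻¹ ∉ Cfsg.sigmaCore M := fun h => by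
    obtain ⟨m, hm, e⟩ := fusion_sigma hG hM (g := g⁻¹) h (typeA0_ne_one hG hM d hb)
      (by simpa [mul_assoc] using typeA0_mem hG hM d ha)
    refine haσ ?_
    have h' := (mem_normalizer_iff.1 (TauTwo.sigmaCore_normal hG M hm) _).1 h
    rw [e] at h'
    simpa [mul_assoc] using h'
  rcases typeA0_cases hG hM d ha with h | hA | ⟨hK1, m₁, hm₁, z₁, hz₁, rfl⟩
  · exact absurd h.1 haσ
  · rcases typeA0_cases hG hM d hb with h | hB | ⟨-, m₂, -, z₂, hz₂, e⟩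
    · exact absurd h.1 hbσ
    · obtain ⟨s, hs, hs1, hsσ, -, huniq⟩ := sigmaA_part hG hM d hA
      obtain ⟨i, hi⟩ := mem_zpowers_iff.1 hs
      have hos : orderOf (g * s * g⁻¹) = orderOf s := (MulAut.conj g).orderOf_eq s
      obtain ⟨-, hCw, -⟩ := sigmaA_power hG hM d hB.1 (w := g * s * g⁻¹)
        (mem_zpowers_iff.2 ⟨i, by rw [conj_zpow, hi]⟩)
        (fun e => hs1 (conj_eq_one_iff.1 e)) fun p hp hpd => hsσ p hp (hos ▸ hpd)
      have hle : centralizer ({s} : Set G) ≤ conjBy g⁻¹ M := by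
        intro c hc
        refine ⟨g * c * g⁻¹, hCw ?_, ?_⟩
        · rw [← Tilde.conjBy_centralizer]; exact conj_mem_conjBy hc
        · show g⁻¹ * (g * c * g⁻¹) * (g⁻¹)⁻¹ = c
          group
      have h2 : g⁻¹ ∈ normalizer (M : Set G) :=
        CfsgLib.Coprime.conjBy_eq_self_iff.1 (huniq _ (isCoatom_conjBy g⁻¹ hM) hle)
      rw [ms_normalizer_self hG hM] at h2
      exact ⟨g, inv_mem_iff.1 h2, rfl⟩
    · obtain ⟨p, hp, hpd, hκ⟩ := zhat_prime hG hM d (m := m₂) hz₂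
      rw [← e, hord] at hpd
      exact absurd hκ (not_kappa_of_mem hG hM d hA.1.2 hp hpd)
  · rcases typeA0_cases hG hM d hb with h | hB | ⟨-, m₂, hm₂, z₂, hz₂, e⟩
    · exact absurd h.1 hbσ
    · obtain ⟨p, hp, hpd, hκ⟩ := zhat_prime hG hM d (m := m₁) hz₁
      rw [← hord] at hpd
      exact absurd hκ (not_kappa_of_mem hG hM d hB.1.2 hp hpd)
    · refine ⟨g, ?_, rfl⟩
      have hgz : m₂⁻¹ * g * m₁ * z₁ * (m₂⁻¹ * g * m₁)⁻¹ = z₂ := by
        calc m₂⁻¹ * g * m₁ * z₁ * (m₂⁻¹ * g * m₁)⁻¹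
            = m₂⁻¹ * (g * (m₁ * z₁ * m₁⁻¹) * g⁻¹) * m₂ := by group
          _ = z₂ := by rw [e]; group
      have h := Inter.zhat_transporter hG hM d.hall hK1 hz₁ (hgz.symm ▸ hz₂)
      have h' := sup_le d.hall.1 (inf_le_left.trans (map_subtype_le _)) h
      have h'' := mul_mem (mul_mem hm₂ h') (inv_mem hm₁)
      simpa [mul_assoc] using h''

end CfsgLib.Char.OddType
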